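import Mathlib
import Cfsg.Prelude.Def_SporadicB
import Cfsg.Agent.Lib.Helper11.SimpleModel

/-!
# Non-split double covers
-/

set_option autoImplicit false

namespace Cfsg.Agent.Lib.Helper11

theorem nonsplit_double_cover {H K : Type*} [Group H] [Group K] [IsSimpleGroup K]
    (θ : K →* H ⧸ Subgroup.center H) (hsurj : Function.Surjective θ) (hperf : commutator H = ⊤)
    (hcard : Nat.card H = 2 * Nat.card K) (hK : Nat.card K ≠ 0) :
    Cfsg.IsNonsplitDoubleCover H K := by
  have hH0 : Nat.card H ≠ 0 := by omega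
  haveI : Finite H := Nat.finite_of_card_ne_zero hH0
  have hinj : Function.Injective θ := by
    rcases θ.normal_ker.eq_bot_or_eq_top with h | h
    · exact (MonoidHom.ker_eq_bot_iff θ).1 h
    · exfalso
      have h1 : ∀ q : H ⧸ Subgroup.center H, q = 1 := by
        intro q
        obtain ⟨x, rfl⟩ := hsurj q
        have : x ∈ θ.ker := by rw [h]; exact Subgroup.mem_top x
        exact this
      have h2 : ∀ x y : H, x * y = y * x := by
        intro x y
        have := (QuotientGroup.eq_one_iff x).1 (h1 x)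
        exact ((Subgroup.mem_center_iff.1 this) y).symm
      have h3 : commutator H = ⊥ := by
        rw [commutator_def, Subgroup.commutator_eq_bot_iff_le_centralizer]
        intro x _
        rw [Subgroup.mem_centralizer_iff]
        intro y _
        exact h2 y x
      rw [hperf] at h3
      have h4 : Nat.card H = 1 := by
        rw [← Subgroup.card_top, h3, Subgroup.card_bot]
      omega
  have e : K ≃* H ⧸ Subgroup.center H := MulEquiv.ofBijective θ ⟨hinj, hsurj⟩
  have hc1 := Subgroup.card_eq_card_quotient_mul_card_subgroup (Subgroup.center H)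
  rw [← Nat.card_congr e.toEquiv, hcard] at hc1
  have hc2 : Nat.card (Subgroup.center H) = 2 := by
    have : Nat.card K * 2 = Nat.card K * Nat.card (Subgroup.center H) := by rw [← hc1]; ring
    exact (Nat.eq_of_mul_eq_mul_left (Nat.pos_of_ne_zero hK) this).symm
  refine ⟨hc2, ⟨e.symm⟩, ?_⟩
  intro L hL
  have h1 := hL.card_mul_card
  rw [hc2] at h1
  have h2 := L.index_mul_card
  have hL0 : Nat.card L ≠ 0 := Nat.card_pos.ne'
  have h3 : L.index = 2 := by
    have : L.index * Nat.card L = 2 * Nat.card L := by rw [h2, h1]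
    exact Nat.eq_of_mul_eq_mul_right (Nat.pos_of_ne_zero hL0) this
  haveI : L.Normal := Subgroup.normal_of_index_eq_two h3
  have h4 : Nat.card (H ⧸ L) = 2 := h3
  haveI : Fact (Nat.Prime 2) := ⟨Nat.prime_two⟩
  haveI : IsCyclic (H ⧸ L) := isCyclic_of_prime_card h4
  letI : CommGroup (H ⧸ L) := IsCyclic.commGroup
  have h5 := Abelianization.commutator_subset_ker (QuotientGroup.mk' L)
  rw [QuotientGroup.ker_mk', hperf, top_le_iff] at h5
  rw [h5, Subgroup.index_top] at h3
  omega

theorem inj_of_stabL_bot {G : Type*} [Group G] (ψ : G →* Equiv.Perm ℕ) (bs : List ℕ)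
    (h : stabL ψ bs = ⊥) : Function.Injective ψ := by
  rw [injective_iff_map_eq_one]
  intro g hg
  have : g ∈ stabL ψ bs := by
    intro b _
    rw [hg]; rfl
  rw [h] at this
  exact Subgroup.mem_bot.1 this

theorem comm_of_normChk {G F : Type*} [Group G] [Group F] (mk : F →* G) (ψ : G →* Equiv.Perm ℕ)
    (φ : ℕ → F) (INV : ℕ) (NT : ℕ → List (ℕ × ℕ)) (k : ℕ)
    (hNT : ∀ l, ∀ st ∈ NT l, stOK (2 ^ (2 ^ k)) st = true)
    (hψ : ∀ e : WExp, ψ (mk (e.eval φ)) = wordPerm NT (e.letters INV))
    (hψinj : Function.Injective ψ) (hExps : List WExp) (tE : WExp)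
    (h : normChk NT k (hExps.map (fun e => e.letters INV)) (tE.letters INV) (tE.letters INV) = true) :
    ∀ e ∈ hExps, mk (e.eval φ) * mk (tE.eval φ) = mk (tE.eval φ) * mk (e.eval φ) := by
  intro e he
  unfold normChk at h
  rw [List.all_eq_true] at h
  have h1 := h _ (List.mem_map_of_mem he)
  rw [Bool.or_self] at h1
  apply hψinj
  have := wordEq_spec NT k hNT _ _ h1
  rw [wordPerm_append, wordPerm_append, ← hψ, ← hψ] at this
  rw [map_mul, map_mul]; exact this

end Cfsg.Agent.Lib.Helper11
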