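import Mathlib
import Cfsg.Agent.Lib.Helper11.Words
import Cfsg.Agent.Lib.Helper11.Simple

/-!
# Helpers on `CoxPresented` groups: perfectness and normal closures
-/

set_option autoImplicit false

namespace Cfsg.Agent.Lib.Helper11

section

variable {α : Type*} [DecidableEq α] (edges : List (α × ℕ × α)) (extra : List (FreeGroup α))

theorem cox_sq (x : α) (hx : x ∈ Cfsg.Spor.coxNodes edges) :
    (PresentedGroup.mk (Cfsg.Spor.coxRelators edges ∪ {r | r ∈ extra})) (FreeGroup.of x) *
      (PresentedGroup.mk (Cfsg.Spor.coxRelators edges ∪ {r | r ∈ extra})) (FreeGroup.of x) = 1 := by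
  have h := cox_rel edges extra x x hx hx
  have h1 : Cfsg.Spor.coxLabel edges x x = 1 := by simp [Cfsg.Spor.coxLabel]
  rwa [h1, pow_one] at h

theorem cox_mem_step (N : Subgroup (PresentedGroup (Cfsg.Spor.coxRelators edges ∪ {r | r ∈ extra})))
    [N.Normal] (x y : α) (m : ℕ) (hx : x ∈ Cfsg.Spor.coxNodes edges)
    (hy : y ∈ Cfsg.Spor.coxNodes edges) (hl : Cfsg.Spor.coxLabel edges x y = 2 * m + 1)
    (h : (PresentedGroup.mk (Cfsg.Spor.coxRelators edges ∪ {r | r ∈ extra})) (FreeGroup.of x) ∈ N) :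
    (PresentedGroup.mk (Cfsg.Spor.coxRelators edges ∪ {r | r ∈ extra})) (FreeGroup.of y) ∈ N := by
  have h1 := cox_rel edges extra x y hx hy
  rw [hl] at h1
  exact mem_of_braid N m (cox_sq edges extra x hx) (cox_sq edges extra y hy) h1 h

theorem cox_ab_step {A : Type*} [CommGroup A]
    (f : PresentedGroup (Cfsg.Spor.coxRelators edges ∪ {r | r ∈ extra}) →* A)
    (x y : α) (m : ℕ) (hx : x ∈ Cfsg.Spor.coxNodes edges)
    (hy : y ∈ Cfsg.Spor.coxNodes edges) (hl : Cfsg.Spor.coxLabel edges x y = 2 * m + 1) :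
    f ((PresentedGroup.mk (Cfsg.Spor.coxRelators edges ∪ {r | r ∈ extra})) (FreeGroup.of x)) =
    f ((PresentedGroup.mk (Cfsg.Spor.coxRelators edges ∪ {r | r ∈ extra})) (FreeGroup.of y)) := by
  have h1 := cox_rel edges extra x y hx hy
  rw [hl] at h1
  apply eq_of_braid m
  · rw [pow_two, ← map_mul, cox_sq edges extra x hx, map_one]
  · rw [pow_two, ← map_mul, cox_sq edges extra y hy, map_one]
  · rw [← map_mul, ← map_pow]
    exact (congrArg f h1).trans (map_one f)

theorem cox_ab_sq {A : Type*} [CommGroup A]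
    (f : PresentedGroup (Cfsg.Spor.coxRelators edges ∪ {r | r ∈ extra}) →* A)
    (x : α) (hx : x ∈ Cfsg.Spor.coxNodes edges) :
    f ((PresentedGroup.mk (Cfsg.Spor.coxRelators edges ∪ {r | r ∈ extra})) (FreeGroup.of x)) ^ 2
      = 1 := by
  rw [pow_two, ← map_mul, cox_sq edges extra x hx, map_one]

end

theorem perfect_of_ab_trivial {G : Type*} [Group G] (T : Set G) (hT : Subgroup.closure T = ⊤)
    (h : ∀ s ∈ T, Abelianization.of s = 1) : commutator G = ⊤ := by
  rw [eq_top_iff, ← hT, Subgroup.closure_le, ← Abelianization.ker_of]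
  intro s hs
  exact MonoidHom.mem_ker.2 (h s hs)

theorem normalClosure_top_of_conj {G : Type*} [Group G] (x a : G) (T : Set G)
    (hT : Subgroup.closure T = ⊤)
    (h : ∀ N : Subgroup G, N.Normal → a ∈ N → ∀ s ∈ T, s ∈ N) :
    Subgroup.normalClosure {x⁻¹ * a * x} = ⊤ := by
  rw [eq_top_iff, ← hT, Subgroup.closure_le]
  intro s hs
  apply h _ Subgroup.normalClosure_normal _ s hs
  have h1 : x⁻¹ * a * x ∈ Subgroup.normalClosure {x⁻¹ * a * x} :=
    Subgroup.subset_normalClosure (Set.mem_singleton _)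
  have h2 := (Subgroup.normalClosure_normal (s := {x⁻¹ * a * x})).conj_mem _ h1 x
  have e : x * (x⁻¹ * a * x) * x⁻¹ = a := by group
  rwa [e] at h2

theorem normalClosure_top_of_mem {G : Type*} [Group G] (a : G) (T : Set G)
    (hT : Subgroup.closure T = ⊤)
    (h : ∀ N : Subgroup G, N.Normal → a ∈ N → ∀ s ∈ T, s ∈ N) :
    Subgroup.normalClosure {a} = ⊤ := by
  rw [eq_top_iff, ← hT, Subgroup.closure_le]
  intro s hs
  exact h _ Subgroup.normalClosure_normal (Subgroup.subset_normalClosure (Set.mem_singleton _)) s hs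

theorem one_of_sq_of_odd {A : Type*} [Group A] (u : A) (m : ℕ) (h2 : u ^ 2 = 1)
    (h : u ^ (2 * m + 1) = 1) : u = 1 := by
  rw [pow_succ, pow_mul, h2, one_pow, one_mul] at h
  exact h

end Cfsg.Agent.Lib.Helper11
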