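import Mathlib
import Cfsg.Agent.Lib.Helper11.Order

/-!
# Stabiliser chains with word moves, counting bits, and lower bounds for relative indices
-/

set_option autoImplicit false

namespace Cfsg.Agent.Lib.Helper11

section Chain

variable {G : Type*} [Group G] (ψ : G →* Equiv.Perm ℕ)

/-- push the base points of the levels -/
def pushBW : List (List (List ℕ) × ℕ × ℕ × ℕ × ℕ) → List ℕ → List ℕ
  | [], bs => bs
  | x :: rest, bs => pushBW rest (x.2.2.1 :: bs)

/-- the check of a stabiliser chain; a level is `(moves, r, b, a, m)`, the moves being words -/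
noncomputable def chainChkW (NT : ℕ → List (ℕ × ℕ)) (Lmax : ℕ) :
    List (List (List ℕ) × ℕ × ℕ × ℕ × ℕ) → List ℕ → Bool
  | [], _ => true
  | x :: rest, bs =>
    x.1.all (fun w => w.all (fun l => decide (l < Lmax))) &&
    (growChk NT x.1 x.2.1 x.2.2.1 x.2.2.2.1 x.2.2.2.2 &&
    (bs.all (fun c => fixChk NT x.1 c 1) &&
    chainChkW NT Lmax rest (x.2.2.1 :: bs)))

theorem chain_cardW [Finite G] (P2 : ℕ) (NT : ℕ → List (ℕ × ℕ))
    (hNT : ∀ l, ∀ st ∈ NT l, stOK P2 st = true) (Lmax : ℕ)
    (hrange : ∀ l < Lmax, netPerm (NT l) ∈ ψ.range) :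
    ∀ (lv : List (List (List ℕ) × ℕ × ℕ × ℕ × ℕ)) (bs : List ℕ), chainChkW NT Lmax lv bs = true →
      (lv.map fun x => x.2.2.2.2).prod * Nat.card (stabL ψ (pushBW lv bs)) ≤
        Nat.card (stabL ψ bs) := by
  intro lv
  induction lv with
  | nil => intro bs _; simp [pushBW]
  | cons x rest ih =>
    intro bs h
    simp only [chainChkW, Bool.and_eq_true, List.all_eq_true, decide_eq_true_eq] at h
    obtain ⟨h1, h2, h3, h4⟩ := h
    have hstep := card_stabL_step ψ bs x.2.2.1 x.2.2.2.1 x.2.2.2.2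
      (reach_of_grow ψ (stabL ψ bs) P2 NT hNT _ (by
        intro w hw
        obtain ⟨t, ht⟩ := wordPerm_mem ψ NT w (fun l hl => hrange l (h1 w hw l hl))
        refine ⟨t, ?_, ht⟩
        intro c hc
        rw [ht]
        exact fix_of_fixChk P2 NT hNT _ c (h3 c hc) _ hw) _ _ _ _ h2)
    have hrec := ih _ h4
    simp only [List.map_cons, List.prod_cons, pushBW]
    calc x.2.2.2.2 * (rest.map fun x => x.2.2.2.2).prod * Nat.card (stabL ψ (pushBW rest (x.2.2.1 :: bs)))
        = x.2.2.2.2 * ((rest.map fun x => x.2.2.2.2).prod *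
            Nat.card (stabL ψ (pushBW rest (x.2.2.1 :: bs)))) := by ring
      _ ≤ x.2.2.2.2 * Nat.card (stabL ψ (x.2.2.1 :: bs)) := Nat.mul_le_mul_left _ hrec
      _ ≤ _ := hstep

/-- order and faithfulness from matching bounds -/
theorem order_of_chainW (P2 : ℕ) (NT : ℕ → List (ℕ × ℕ))
    (hNT : ∀ l, ∀ st ∈ NT l, stOK P2 st = true) (Lmax : ℕ)
    (hrange : ∀ l < Lmax, netPerm (NT l) ∈ ψ.range)
    (lv : List (List (List ℕ) × ℕ × ℕ × ℕ × ℕ)) (h : chainChkW NT Lmax lv [] = true) (N : ℕ)
    (hN : (lv.map fun x => x.2.2.2.2).prod = N) (hup : Nat.card G ≠ 0 ∧ Nat.card G ≤ N) :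
    Nat.card G = N ∧ stabL ψ (pushBW lv []) = ⊥ := by
  haveI : Finite G := Nat.finite_of_card_ne_zero hup.1
  have h1 := chain_cardW ψ P2 NT hNT Lmax hrange lv [] h
  rw [hN, stabL_nil, Subgroup.card_top] at h1
  have hpos : 0 < Nat.card (stabL ψ (pushBW lv [])) := Nat.card_pos
  have hNpos : 0 < N := by omega
  have h2 : Nat.card (stabL ψ (pushBW lv [])) = 1 := by
    by_contra hne
    have : 2 ≤ Nat.card (stabL ψ (pushBW lv [])) := by omega
    have : N * 2 ≤ N * Nat.card (stabL ψ (pushBW lv [])) := Nat.mul_le_mul_left _ this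
    omega
  refine ⟨?_, Subgroup.card_eq_one.1 h2⟩
  rw [h2] at h1
  omega

end Chain

/-! ## counting bits -/

/-- the number of set bits among the lowest `2 ^ d` bits -/
noncomputable def pcnt : ℕ → ℕ → ℕ :=
  Nat.rec (motive := fun _ => ℕ → ℕ) (fun x => Nat.mod x 2)
    (fun d ih x => Bool.rec
      (Nat.add (ih (Nat.mod x (Nat.pow 2 (Nat.pow 2 d)))) (ih (Nat.div x (Nat.pow 2 (Nat.pow 2 d)))))
      0 (Nat.beq x 0))

theorem pcnt_zero (x : ℕ) : pcnt 0 x = x % 2 := rfl

theorem pcnt_succ (d x : ℕ) : pcnt (d + 1) x =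
    pcnt d (x % 2 ^ 2 ^ d) + pcnt d (x / 2 ^ 2 ^ d) := by
  have h : pcnt (d + 1) x = (Bool.rec
      (Nat.add (pcnt d (Nat.mod x (Nat.pow 2 (Nat.pow 2 d)))) (pcnt d (Nat.div x (Nat.pow 2 (Nat.pow 2 d)))))
      0 (Nat.beq x 0) : ℕ) := rfl
  rw [h]
  cases hx : Nat.beq x 0 with
  | false => rfl
  | true =>
    have : x = 0 := Nat.eq_of_beq_eq_true hx
    subst this
    have hz : ∀ d, pcnt d 0 = 0 := by
      intro d
      cases d with
      | zero => rfl
      | succ d => rfl
    simp [hz]

theorem pcnt_spec : ∀ (d x : ℕ),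
    pcnt d x = ((Finset.range (2 ^ d)).filter (fun p => x.testBit p = true)).card := by
  intro d
  induction d with
  | zero =>
    intro x
    rw [pcnt_zero]
    simp only [pow_zero, Finset.range_one]
    rw [Finset.filter_singleton]
    rcases Nat.mod_two_eq_zero_or_one x with h | h
    · have : x.testBit 0 = false := by simp [Nat.testBit_zero, h]
      simp [this, h]
    · have : x.testBit 0 = true := by simp [Nat.testBit_zero, h]
      simp [this, h]
  | succ d ih =>
    intro x
    rw [pcnt_succ, ih, ih]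
    have e1 : (Finset.range (2 ^ d)).filter (fun p => (x % 2 ^ 2 ^ d).testBit p = true) =
        (Finset.range (2 ^ d)).filter (fun p => x.testBit p = true) := by
      apply Finset.filter_congr
      intro p hp
      rw [Nat.testBit_mod_two_pow]
      simp [Finset.mem_range.1 hp]
    have e2 : ((Finset.range (2 ^ d)).filter (fun p => (x / 2 ^ 2 ^ d).testBit p = true)).card =
        ((Finset.Ico (2 ^ d) (2 ^ (d + 1))).filter (fun p => x.testBit p = true)).card := by
      apply Finset.card_bij (fun p _ => 2 ^ d + p)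
      · intro p hp
        rw [Finset.mem_filter, Finset.mem_range] at hp
        rw [Finset.mem_filter, Finset.mem_Ico]
        refine ⟨⟨by omega, by rw [pow_succ]; omega⟩, ?_⟩
        have := hp.2
        rwa [Nat.testBit_div_two_pow, Nat.add_comm] at this
      · intro p _ q _ h
        omega
      · intro q hq
        rw [Finset.mem_filter, Finset.mem_Ico] at hq
        refine ⟨q - 2 ^ d, ?_, by omega⟩
        rw [Finset.mem_filter, Finset.mem_range]
        refine ⟨by have := hq.1.2; rw [pow_succ] at this; omega, ?_⟩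
        rw [Nat.testBit_div_two_pow]
        have : q - 2 ^ d + 2 ^ d = q := by omega
        rw [this]; exact hq.2
    rw [e1, e2, ← Finset.card_union_of_disjoint, ← Finset.filter_union]
    · congr 2
      ext p
      simp only [Finset.mem_union, Finset.mem_range, Finset.mem_Ico]
      have : 2 ^ d ≤ 2 ^ (d + 1) := Nat.pow_le_pow_right (by norm_num) (by omega)
      omega
    · apply Finset.disjoint_filter_filter
      rw [Finset.disjoint_left]
      intro p hp hq
      rw [Finset.mem_range] at hp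
      rw [Finset.mem_Ico] at hq
      omega

/-- check: growing `{0}` gives at least `m` points -/
noncomputable def cntChk (NT : ℕ → List (ℕ × ℕ)) (moves : List (List ℕ)) (r k m : ℕ) : Bool :=
  Nat.ble m (pcnt k (grow NT moves r (Nat.pow 2 0)))

theorem relIndex_ge_of_cnt {G : Type*} [Group G] (ψ : G →* Equiv.Perm ℕ) (A B : Subgroup G)
    (hBfin : A.relIndex B ≠ 0)
    (hA : ∀ g ∈ A, ψ g 0 = 0)
    (P2 : ℕ) (NT : ℕ → List (ℕ × ℕ)) (hNT : ∀ l, ∀ st ∈ NT l, stOK P2 st = true)
    (moves : List (List ℕ)) (hmoves : ∀ w ∈ moves, ∃ t ∈ B, ψ t = wordPerm NT w) (r k m : ℕ)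
    (h : cntChk NT moves r k m = true) : m ≤ A.relIndex B := by
  classical
  have h1 : m ≤ pcnt k (grow NT moves r (2 ^ 0)) := Nat.le_of_ble_eq_true h
  rw [pcnt_spec] at h1
  set T := (Finset.range (2 ^ k)).filter (fun p => (grow NT moves r (2 ^ 0)).testBit p = true) with hT
  have hreach : ∀ p ∈ T, ∃ g ∈ B, ψ g 0 = p := by
    intro p hp
    rw [hT, Finset.mem_filter] at hp
    refine grow_spec P2 NT hNT (fun p => ∃ h ∈ B, ψ h 0 = p) moves ?_ r (2 ^ 0) ?_ p hp.2
    · rintro w hw p ⟨h, hh, e⟩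
      obtain ⟨t, ht, et⟩ := hmoves w hw
      refine ⟨t⁻¹ * h, B.mul_mem (B.inv_mem ht) hh, ?_⟩
      rw [map_mul, Equiv.Perm.mul_apply, e, map_inv, et]
      simp
    · intro p hp
      rw [Nat.testBit_two_pow] at hp
      have : 0 = p := by simpa using hp
      subst this
      exact ⟨1, B.one_mem, by simp⟩
  choose! g hg hgb using hreach
  haveI : Finite (B ⧸ A.subgroupOf B) := by
    apply Nat.finite_of_card_ne_zero
    exact hBfin
  let F : T → B ⧸ (A.subgroupOf B) := fun p => ((⟨g p, hg p p.2⟩ : B) : B ⧸ _)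
  have hF : Function.Injective F := by
    intro i j hij
    have h2 := QuotientGroup.eq.1 hij
    rw [Subgroup.mem_subgroupOf] at h2
    have h3 : ψ ((g i)⁻¹ * g j) 0 = 0 := hA _ h2
    rw [map_mul, Equiv.Perm.mul_apply, hgb j j.2, map_inv, Equiv.Perm.inv_eq_iff_eq, hgb i i.2] at h3
    exact Subtype.ext h3.symm
  have := Nat.card_le_card_of_injective F hF
  have h4 : Nat.card T = T.card := by simp
  rw [h4] at this
  exact le_trans h1 this

/-- the detour: a bound on `|A|` from a bound on `|B|` and a lower bound on the index -/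
theorem card_le_detour {G : Type*} [Group G] {A B : Subgroup G} (h : A ≤ B) (m c : ℕ)
    (hB : Nat.card B ≠ 0 ∧ Nat.card B ≤ m * c) (hm : m ≤ A.relIndex B) (hm0 : 0 < m) :
    Nat.card A ≠ 0 ∧ Nat.card A ≤ c := by
  have h1 := card_eq_relIndex_mul h
  have hA0 : Nat.card A ≠ 0 := by
    intro h0
    rw [h0, mul_zero] at h1
    exact hB.1 h1
  refine ⟨hA0, ?_⟩
  have h2 : m * Nat.card A ≤ m * c := by
    calc m * Nat.card A ≤ A.relIndex B * Nat.card A := Nat.mul_le_mul_right _ hm
      _ = Nat.card B := h1.symm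
      _ ≤ m * c := hB.2
  exact Nat.le_of_mul_le_mul_left h2 hm0

theorem relIndex_ne_zero_of_card {G : Type*} [Group G] {A B : Subgroup G} (h : A ≤ B)
    (hB : Nat.card B ≠ 0) : A.relIndex B ≠ 0 := by
  intro h0
  have h1 := card_eq_relIndex_mul h
  rw [h0, zero_mul] at h1
  exact hB h1

end Cfsg.Agent.Lib.Helper11
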