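import Mathlib
import Cfsg.Prelude.Def_Transfer
import Cfsg.Agent.Lib.Helper11.OrderW

/-!
# Elementary abelian subgroups of a 2-group `K . S`, from tables
-/

set_option autoImplicit false

namespace Cfsg.Agent.Lib.Helper11.SylEA

section A

variable {G : Type*} [Group G]

/-- the product of the members of the list selected by the bits of `x` -/
def evL : List G → ℕ → G
  | [], _ => 1
  | g :: L, x => (if x % 2 = 1 then g else 1) * evL L (x / 2)

/-- commuting involutions -/
def CI (L : List G) : Prop := (∀ g ∈ L, g * g = 1) ∧ ∀ g ∈ L, ∀ h ∈ L, g * h = h * g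

theorem CI.tail {g : G} {L : List G} (h : CI (g :: L)) : CI L :=
  ⟨fun x hx => h.1 x (List.mem_cons_of_mem _ hx),
    fun x hx y hy => h.2 x (List.mem_cons_of_mem _ hx) y (List.mem_cons_of_mem _ hy)⟩

theorem evL_zero : ∀ L : List G, evL L 0 = 1
  | [] => rfl
  | g :: L => by simp [evL, evL_zero L]

theorem evL_comm (g : G) : ∀ (L : List G), (∀ x ∈ L, g * x = x * g) → ∀ n, g * evL L n = evL L n * g
  | [], _, _ => by simp [evL]
  | y :: L, h, n => by
    have ih := evL_comm g L (fun x hx => h x (List.mem_cons_of_mem _ hx)) (n / 2)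
    have hy := h y (List.mem_cons_self)
    rw [evL]
    split_ifs
    · rw [← mul_assoc, hy, mul_assoc, ih, mul_assoc]
    · rw [one_mul, ih]

theorem evL_xor : ∀ (L : List G), CI L → ∀ x y, evL L (x ^^^ y) = evL L x * evL L y
  | [], _, _, _ => by simp [evL]
  | g :: L, h, x, y => by
    have ih := evL_xor L h.tail (x / 2) (y / 2)
    have hd : (x ^^^ y) / 2 = x / 2 ^^^ y / 2 := by
      have := @Nat.xor_div_two_pow x y 1
      simpa using this
    have hm : (x ^^^ y) % 2 = x % 2 ^^^ y % 2 := by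
      have := @Nat.xor_mod_two_pow x y 1
      simpa using this
    have hc := evL_comm g L (fun z hz => h.2 g List.mem_cons_self z (List.mem_cons_of_mem _ hz))
      (x / 2)
    have hg := h.1 g List.mem_cons_self
    rw [evL, evL, evL, hd, ih, hm]
    rcases Nat.mod_two_eq_zero_or_one x with hx | hx <;>
      rcases Nat.mod_two_eq_zero_or_one y with hy | hy <;> simp only [hx, hy]
    · simp
    · simp only [Nat.zero_xor, if_true, one_mul]
      norm_num
      rw [← mul_assoc, hc, mul_assoc]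
    · simp [mul_assoc]
    · simp only [Nat.xor_self, if_true]
      norm_num
      calc evL L (x / 2) * evL L (y / 2) = (g * g) * evL L (x / 2) * evL L (y / 2) := by
            rw [hg, one_mul]
        _ = g * evL L (x / 2) * (g * evL L (y / 2)) := by
            rw [mul_assoc g g, hc, mul_assoc, mul_assoc, mul_assoc, ← mul_assoc g (evL L (x / 2)),
              hc, mul_assoc]

theorem evL_sq (L : List G) (h : CI L) (x : ℕ) : evL L x * evL L x = 1 := by
  rw [← evL_xor L h, Nat.xor_self, evL_zero]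

theorem evL_two_pow : ∀ (L : List G) (i : ℕ), i < L.length → evL L (2 ^ i) = L.getD i 1
  | [], i, h => by simp at h
  | g :: L, 0, _ => by simp [evL, evL_zero]
  | g :: L, i + 1, h => by
    have ih := evL_two_pow L i (by simpa using h)
    have h1 : 2 ^ (i + 1) % 2 = 0 := by rw [pow_succ]; omega
    have h2 : 2 ^ (i + 1) / 2 = 2 ^ i := by rw [pow_succ]; omega
    rw [evL, h1, h2, ih]
    simp

theorem evL_mod : ∀ (L : List G) (x : ℕ), evL L (x % 2 ^ L.length) = evL L x
  | [], _ => rfl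
  | g :: L, x => by
    have ih := evL_mod L (x / 2)
    have h1 : x % 2 ^ (g :: L).length % 2 = x % 2 := by
      rw [List.length_cons, pow_succ']
      exact Nat.mod_mod_of_dvd _ (Dvd.intro _ rfl)
    have h2 : x % 2 ^ (g :: L).length / 2 = x / 2 % 2 ^ L.length := by
      rw [List.length_cons, pow_succ']
      exact Nat.mod_mul_right_div_self _ _ _
    rw [evL, evL, h1, h2, ih]

theorem evL_mem : ∀ (L : List G) (H : Subgroup G), (∀ g ∈ L, g ∈ H) → ∀ x, evL L x ∈ H
  | [], H, _, _ => H.one_mem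
  | g :: L, H, h, x => by
    rw [evL]
    apply H.mul_mem
    · split_ifs
      · exact h g List.mem_cons_self
      · exact H.one_mem
    · exact evL_mem L H (fun y hy => h y (List.mem_cons_of_mem _ hy)) _

theorem exists_evL (L : List G) (h : CI L) (a : G) (ha : a ∈ Subgroup.closure {g | g ∈ L}) :
    ∃ x < 2 ^ L.length, evL L x = a := by
  have key : ∃ x, evL L x = a := by
    induction ha using Subgroup.closure_induction with
    | mem g hg =>
      obtain ⟨i, hi, rfl⟩ := List.mem_iff_getElem.1 hg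
      exact ⟨2 ^ i, by rw [evL_two_pow L i hi, List.getD_eq_getElem _ _ hi]⟩
    | one => exact ⟨0, evL_zero L⟩
    | mul x y _ _ hx hy =>
      obtain ⟨u, rfl⟩ := hx
      obtain ⟨v, rfl⟩ := hy
      exact ⟨u ^^^ v, evL_xor L h u v⟩
    | inv x _ hx =>
      obtain ⟨u, rfl⟩ := hx
      exact ⟨u, (inv_eq_of_mul_eq_one_right (evL_sq L h u)).symm⟩
  obtain ⟨x, rfl⟩ := key
  exact ⟨x % 2 ^ L.length, Nat.mod_lt _ (by positivity), evL_mod L x⟩

theorem evL_inj (L : List G) (h : CI L)
    (hc : 2 ^ L.length ≤ Nat.card (Subgroup.closure {g | g ∈ L})) :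
    ∀ x < 2 ^ L.length, ∀ y < 2 ^ L.length, evL L x = evL L y → x = y := by
  let f : Fin (2 ^ L.length) → Subgroup.closure {g | g ∈ L} := fun i =>
    ⟨evL L i, evL_mem L _ (fun g hg => Subgroup.subset_closure hg) _⟩
  have hs : Function.Surjective f := by
    rintro ⟨a, ha⟩
    obtain ⟨x, hx, e⟩ := exists_evL L h a ha
    exact ⟨⟨x, hx⟩, Subtype.ext e⟩
  have hb := hs.bijective_of_nat_card_le (by simpa using hc)
  intro x hx y hy e
  have : (⟨x, hx⟩ : Fin (2 ^ L.length)) = ⟨y, hy⟩ := hb.1 (Subtype.ext e)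
  simpa using this

/-- the linear map given by the images of the basis vectors -/
def xorL : List ℕ → ℕ → ℕ
  | [], _ => 0
  | m :: ms, x => (if x % 2 = 1 then m else 0) ^^^ xorL ms (x / 2)

theorem xorL_lt (r : ℕ) : ∀ (ms : List ℕ), (∀ m ∈ ms, m < 2 ^ r) → ∀ x, xorL ms x < 2 ^ r
  | [], _, _ => by simp [xorL]
  | m :: ms, h, x => by
    rw [xorL]
    apply Nat.xor_lt_two_pow
    · split_ifs
      · exact h m List.mem_cons_self
      · positivity
    · exact xorL_lt r ms (fun y hy => h y (List.mem_cons_of_mem _ hy)) _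

theorem evL_map_conj (a : G) : ∀ (L : List G) (x : ℕ),
    a * evL L x * a⁻¹ = evL (L.map (fun g => a * g * a⁻¹)) x
  | [], _ => by simp [evL]
  | g :: L, x => by
    have ih := evL_map_conj a L (x / 2)
    rw [List.map_cons, evL, evL, ← ih]
    split_ifs <;> group

theorem evL_evL (L : List G) (h : CI L) : ∀ (ms : List ℕ) (x : ℕ),
    evL (ms.map (evL L)) x = evL L (xorL ms x)
  | [], _ => by simp [evL, xorL, evL_zero]
  | m :: ms, x => by
    have ih := evL_evL L h ms (x / 2)
    rw [List.map_cons, evL, xorL, evL_xor L h, ih]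
    split_ifs
    · rfl
    · rw [evL_zero]

end A

section B

variable {G : Type*} [Group G] (ψ : G →* Equiv.Perm ℕ) (D : ℕ → G) (ω : ℕ → ℕ) (nΩ : ℕ)

/-- `a` acts on the points `ω k` and on the elements `D k` as the map `σ` of the indices -/
def PT (σ : ℕ → ℕ) (a : G) : Prop :=
  ∀ k < nΩ, ψ a (ω k) = ω (σ k) ∧ a * D k * a⁻¹ = D (σ k)

variable {ψ D ω nΩ}

theorem PT.congr {σ τ : ℕ → ℕ} {a : G} (h : PT ψ D ω nΩ σ a) (e : ∀ k < nΩ, τ k = σ k) :
    PT ψ D ω nΩ τ a := fun k hk => by rw [e k hk]; exact h k hk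

theorem PT.mul {σ τ : ℕ → ℕ} {a b : G} (ha : PT ψ D ω nΩ σ a) (hb : PT ψ D ω nΩ τ b)
    (hτ : ∀ k < nΩ, τ k < nΩ) : PT ψ D ω nΩ (fun k => σ (τ k)) (a * b) := by
  intro k hk
  obtain ⟨h1, h2⟩ := hb k hk
  obtain ⟨h3, h4⟩ := ha (τ k) (hτ k hk)
  constructor
  · rw [map_mul, Equiv.Perm.mul_apply, h1, h3]
  · calc a * b * D k * (a * b)⁻¹ = a * (b * D k * b⁻¹) * a⁻¹ := by group
      _ = _ := by rw [h2, h4]

theorem PT_one : PT ψ D ω nΩ (fun k => k) 1 := by
  intro k _; simp

theorem table_closure [Finite G] (Sig : ℕ → ℕ → ℕ) (nS : ℕ) (X : Set G)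
    (h0 : 0 < nS) (hS0 : ∀ k < nΩ, Sig 0 k = k)
    (hgen : ∀ g ∈ X, ∃ τ : ℕ → ℕ, PT ψ D ω nΩ τ g ∧ (∀ k < nΩ, τ k < nΩ) ∧
      ∀ i < nS, ∃ i' < nS, ∀ k < nΩ, Sig i' k = Sig i (τ k)) :
    ∀ a ∈ Subgroup.closure X, ∃ i < nS, PT ψ D ω nΩ (Sig i) a := by
  have step : ∀ (x y : G), y ∈ X → (∃ i < nS, PT ψ D ω nΩ (Sig i) x) →
      ∃ i < nS, PT ψ D ω nΩ (Sig i) (x * y) := by
    rintro x y hy ⟨i, hi, hx⟩
    obtain ⟨τ, h1, h2, h3⟩ := hgen y hy
    obtain ⟨i', hi', e⟩ := h3 i hi
    exact ⟨i', hi', (hx.mul h1 h2).congr e⟩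
  have stepn : ∀ (y : G), y ∈ X → ∀ (m : ℕ) (x : G), (∃ i < nS, PT ψ D ω nΩ (Sig i) x) →
      ∃ i < nS, PT ψ D ω nΩ (Sig i) (x * y ^ m) := by
    intro y hy m
    induction m with
    | zero => intro x hx; simpa using hx
    | succ m ih => intro x hx; rw [pow_succ, ← mul_assoc]; exact step _ y hy (ih x hx)
  intro a ha
  induction ha using Subgroup.closure_induction_right with
  | one => exact ⟨0, h0, PT_one.congr hS0⟩
  | mul_right x hx y hy ih => exact step x y hy ih
  | mul_inv_cancel x hx y hy ih =>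
    have : y⁻¹ = y ^ (orderOf y - 1) := by
      apply inv_eq_of_mul_eq_one_right
      rw [← pow_succ', Nat.sub_add_cancel (orderOf_pos y), pow_orderOf_eq_one]
    rw [this]; exact stepn y hy _ x ih

theorem relIndex_le_card [Finite G] (A K : Subgroup G) (F : Finset ℕ) (R : G → ℕ → Prop)
    (h1 : ∀ a ∈ A, ∃ i ∈ F, R a i)
    (h2 : ∀ a ∈ A, ∀ a' ∈ A, ∀ i, R a i → R a' i → a⁻¹ * a' ∈ K) :
    K.relIndex A ≤ F.card := by
  classical
  choose! f hf hR using h1
  let g : A ⧸ (K.subgroupOf A) → F := fun q => ⟨f (q.out : A), hf _ (q.out : A).2⟩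
  have hg : Function.Injective g := by
    intro q q' e
    have e' : f (q.out : A) = f (q'.out : A) := congrArg Subtype.val e
    have h3 := hR _ (q'.out : A).2
    rw [← e'] at h3
    have := h2 _ (q.out : A).2 _ (q'.out : A).2 _ (hR _ (q.out : A).2) h3
    rw [← q.out_eq', ← q'.out_eq']
    exact QuotientGroup.eq.2 (by rw [Subgroup.mem_subgroupOf]; exact this)
  have := Nat.card_le_card_of_injective g hg
  simpa [Subgroup.relIndex, Subgroup.index] using this

theorem card_split (A K : Subgroup G) :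
    Nat.card A = K.relIndex A * Nat.card (K ⊓ A : Subgroup G) := by
  rw [card_eq_relIndex_mul (inf_le_right : K ⊓ A ≤ A), Subgroup.inf_relIndex_right]

theorem card_le_of_cover (H : Subgroup G) (Y : Finset ℕ) (φ : ℕ → G)
    (h : ∀ k ∈ H, ∃ x ∈ Y, φ x = k) : Nat.card H ≤ Y.card := by
  classical
  choose! f hf hφ using h
  let g : H → Y := fun k => ⟨f k, hf k k.2⟩
  have hg : Function.Injective g := by
    intro k k' e
    have e' : f k = f k' := congrArg Subtype.val e
    apply Subtype.ext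
    rw [← hφ k k.2, ← hφ k' k'.2, e']
  have := Nat.card_le_card_of_injective g hg
  simpa using this

end B

/-! ## cliques -/

/-- there is no clique with `k` vertices in the list (with fuel) -/
def noCl (adj : ℕ → ℕ → Bool) : ℕ → ℕ → List ℕ → Bool
  | 0, _, _ => false
  | _ + 1, 0, _ => false
  | _ + 1, _ + 1, [] => true
  | f + 1, k + 1, v :: rest =>
    if rest.length < k then true
    else noCl adj f k (rest.filter (adj v)) && noCl adj f (k + 1) rest

theorem noCl_sound (adj : ℕ → ℕ → Bool) : ∀ (f k : ℕ) (L : List ℕ), noCl adj f k L = true →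
    ∀ L' : List ℕ, L'.Sublist L → L'.length = k → ¬ L'.Pairwise (fun a b => adj a b = true) := by
  intro f
  induction f with
  | zero => intro k L h; simp [noCl] at h
  | succ f ih =>
    intro k L h L' hs hl hp
    cases k with
    | zero => simp [noCl] at h
    | succ k =>
      cases L with
      | nil =>
        have h5 := hs.length_le
        rw [hl, List.length_nil] at h5
        omega
      | cons v rest =>
        rw [noCl] at h
        split_ifs at h with hlt
        · have h5 := hs.length_le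
          rw [hl, List.length_cons] at h5
          omega
        · simp only [Bool.and_eq_true] at h
          rcases List.sublist_cons_iff.1 hs with h1 | ⟨r, rfl, h1⟩
          · exact ih _ _ h.2 L' h1 hl hp
          · rw [List.pairwise_cons] at hp
            have e : r.filter (adj v) = r := List.filter_eq_self.2 hp.1
            have h2 := h1.filter (adj v)
            rw [e] at h2
            exact ih _ _ h.1 r h2 (by simpa using hl) hp.2

theorem card_le_of_noCl (adj : ℕ → ℕ → Bool) (f k : ℕ) (L0 : List ℕ) (hnd : L0.Nodup)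
    (h : noCl adj f (k + 1) L0 = true) (F : Finset ℕ)
    (hF : ∀ i ∈ F, i ∈ L0) (hadj : ∀ i ∈ F, ∀ j ∈ F, adj i j = true) : F.card ≤ k := by
  by_contra hc
  have hc : k < F.card := by omega
  have hsub : (L0.filter (fun i => decide (i ∈ F))).Sublist L0 := List.filter_sublist
  have hnd' : (L0.filter (fun i => decide (i ∈ F))).Nodup := hnd.filter _
  have hfin : (L0.filter (fun i => decide (i ∈ F))).toFinset = F := by
    ext i
    simp only [List.mem_toFinset, List.mem_filter, decide_eq_true_eq]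
    exact ⟨fun h => h.2, fun h => ⟨hF i h, h⟩⟩
  have hlen : (L0.filter (fun i => decide (i ∈ F))).length = F.card := by
    rw [← List.toFinset_card_of_nodup hnd', hfin]
  have h2 : ((L0.filter (fun i => decide (i ∈ F))).take (k + 1)).Sublist L0 :=
    (List.take_sublist _ _).trans hsub
  have h3 : ((L0.filter (fun i => decide (i ∈ F))).take (k + 1)).length = k + 1 := by
    rw [List.length_take]; omega
  apply noCl_sound adj f (k + 1) L0 h _ h2 h3
  apply List.pairwise_of_forall_mem_list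
  intro a ha b hb
  have ha' := List.mem_of_mem_take ha
  have hb' := List.mem_of_mem_take hb
  simp only [List.mem_filter, decide_eq_true_eq] at ha' hb'
  exact hadj a ha'.2 b hb'.2

/-! ## the bound -/

/-- the index map is an involution -/
def invB (Sig : ℕ → ℕ → ℕ) (nΩ i : ℕ) : Bool := (List.range nΩ).all (fun k => Sig i (Sig i k) == k)
/-- the index maps commute -/
def comB (Sig : ℕ → ℕ → ℕ) (nΩ i j : ℕ) : Bool :=
  (List.range nΩ).all (fun k => Sig i (Sig j k) == Sig j (Sig i k))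
/-- commuting involutions -/
def adjB (Sig : ℕ → ℕ → ℕ) (nΩ i j : ℕ) : Bool :=
  invB Sig nΩ i && (invB Sig nΩ j && comB Sig nΩ i j)
/-- the matrix of an index map -/
def msOf (Sig : ℕ → ℕ → ℕ) (cs : ℕ → ℕ) (r i : ℕ) : List ℕ :=
  (List.range r).map (fun l => cs (Sig i l))

section C

variable {G : Type*} [Group G]

/-- the hypotheses on the tables -/
structure Tab (ψ : G →* Equiv.Perm ℕ) (es : List G) (ω cs : ℕ → ℕ) (Sig : ℕ → ℕ → ℕ)
    (nΩ nS r : ℕ) (K T0 : Subgroup G) : Prop where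
  hCI : CI es
  hlen : es.length = r
  hr : r ≤ nΩ
  hK : K = Subgroup.closure {g | g ∈ es}
  hKc : Nat.card K = 2 ^ r
  hstab : ∀ a : G, (∀ k < nΩ, ψ a (ω k) = ω k) → a ∈ K
  hcs : ∀ l < r, cs l = 2 ^ l
  hcslt : ∀ k < nΩ, cs k < 2 ^ r
  hωinj : ∀ k < nΩ, ∀ k' < nΩ, ω k = ω k' → k = k'
  hSlt : ∀ i < nS, ∀ k < nΩ, Sig i k < nΩ
  hS0 : ∀ k < nΩ, Sig 0 k = k
  hT : ∀ a ∈ T0, ∃ i < nS, PT ψ (fun k => evL es (cs k)) ω nΩ (Sig i) a

variable {ψ : G →* Equiv.Perm ℕ} {es : List G} {ω cs : ℕ → ℕ} {Sig : ℕ → ℕ → ℕ}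
  {nΩ nS r : ℕ} {K T0 : Subgroup G}

theorem Tab.conj (t : Tab ψ es ω cs Sig nΩ nS r K T0) (i : ℕ) (hi : i < nS) (a : G)
    (ha : PT ψ (fun k => evL es (cs k)) ω nΩ (Sig i) a) (x : ℕ) :
    a * evL es x * a⁻¹ = evL es (xorL (msOf Sig cs r i) x) := by
  rw [evL_map_conj, ← evL_evL es t.hCI]
  congr 1
  apply List.ext_getElem
  · simp [msOf, t.hlen]
  · intro l h1 h2
    have hl : l < r := by simpa [t.hlen] using h1
    have h3 := (ha l (lt_of_lt_of_le hl t.hr)).2
    simp only [t.hcs l hl] at h3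
    rw [evL_two_pow es l (by rw [t.hlen]; exact hl), List.getD_eq_getElem _ _ (by rw [t.hlen]; exact hl)]
      at h3
    simp only [List.getElem_map, msOf, List.getElem_range]
    exact h3

theorem Tab.fixed (t : Tab ψ es ω cs Sig nΩ nS r K T0) (i : ℕ) (hi : i < nS) (a : G)
    (ha : PT ψ (fun k => evL es (cs k)) ω nΩ (Sig i) a) (x : ℕ) (hx : x < 2 ^ r)
    (hc : a * evL es x = evL es x * a) : xorL (msOf Sig cs r i) x = x := by
  have h1 := t.conj i hi a ha x
  rw [hc, mul_assoc, mul_inv_cancel, mul_one] at h1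
  have hlt : xorL (msOf Sig cs r i) x < 2 ^ r := by
    apply xorL_lt
    intro m hm
    simp only [msOf, List.mem_map, List.mem_range] at hm
    obtain ⟨l, hl, rfl⟩ := hm
    exact t.hcslt _ (t.hSlt i hi l (lt_of_lt_of_le hl t.hr))
  have hcard : 2 ^ es.length ≤ Nat.card (Subgroup.closure {g | g ∈ es}) := by
    rw [← t.hK, t.hKc, t.hlen]
  exact (evL_inj es t.hCI hcard x (by rw [t.hlen]; exact hx) _ (by rw [t.hlen]; exact hlt) h1).symm

theorem Tab.bound [Finite G] (t : Tab ψ es ω cs Sig nΩ nS r K T0) (masks : ℕ → ℕ)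
    (fuel kc c1 c2 : ℕ)
    (hcl : noCl (adjB Sig nΩ) fuel (kc + 1) ((List.range nS).filter (fun i => i != 0)) = true)
    (hmask : ∀ i < nS, i ≠ 0 → invB Sig nΩ i = true → ∀ x < 2 ^ r,
      xorL (msOf Sig cs r i) x = x → (masks i).testBit x = true)
    (hc1 : ∀ i < nS, i ≠ 0 → invB Sig nΩ i = true → pcnt r (masks i) ≤ c1)
    (hc2 : ∀ i < nS, ∀ j < nS, i ≠ 0 → j ≠ 0 → i ≠ j → adjB Sig nΩ i j = true →
      pcnt r (masks i &&& masks j) ≤ c2)
    (A : Subgroup G) (hA : A ≤ T0) (hEA : Cfsg.IsElementaryAbelian 2 A) (hnot : ¬ A ≤ K) :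
    Nat.card A ≤ 2 * c1 ∨ Nat.card A ≤ (kc + 1) * c2 := by
  classical
  have hcomm : ∀ a ∈ A, ∀ b ∈ A, a * b = b * a := by
    intro a ha b hb
    have := hEA.1.is_comm.comm (⟨a, ha⟩ : A) ⟨b, hb⟩
    exact congrArg Subtype.val this
  set D : ℕ → G := fun k => evL es (cs k) with hD
  set F : Finset ℕ := (Finset.range nS).filter (fun i => ∃ a ∈ A, PT ψ D ω nΩ (Sig i) a) with hF
  have h1 : ∀ a ∈ A, ∃ i ∈ F, PT ψ D ω nΩ (Sig i) a := by
    intro a ha
    obtain ⟨i, hi, h⟩ := t.hT a (hA ha)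
    exact ⟨i, Finset.mem_filter.2 ⟨Finset.mem_range.2 hi, a, ha, h⟩, h⟩
  have h2 : ∀ a ∈ A, ∀ a' ∈ A, ∀ i, PT ψ D ω nΩ (Sig i) a → PT ψ D ω nΩ (Sig i) a' →
      a⁻¹ * a' ∈ K := by
    intro a _ a' _ i h h'
    apply t.hstab
    intro k hk
    rw [map_mul, Equiv.Perm.mul_apply, (h' k hk).1, map_inv, Equiv.Perm.inv_eq_iff_eq, (h k hk).1]
  have hrel := relIndex_le_card A K F (fun a i => PT ψ D ω nΩ (Sig i) a) h1 h2
  have hlt : ∀ i ∈ F, i < nS := fun i hi => Finset.mem_range.1 (Finset.mem_filter.1 hi).1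
  have hinv : ∀ i ∈ F, invB Sig nΩ i = true := by
    intro i hi
    obtain ⟨a, ha, h⟩ := (Finset.mem_filter.1 hi).2
    rw [invB, List.all_eq_true]
    intro k hk
    have hk' := List.mem_range.1 hk
    have h3 := (h.mul h (t.hSlt i (hlt i hi)) k hk').1
    have h4 : a * a = 1 := by rw [← pow_two]; exact hEA.2 a ha
    rw [h4, map_one, Equiv.Perm.one_apply] at h3
    have := t.hωinj _ hk' _ (t.hSlt i (hlt i hi) _ (t.hSlt i (hlt i hi) k hk')) h3
    simp only [beq_iff_eq]
    exact this.symm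
  have hcom : ∀ i ∈ F, ∀ j ∈ F, comB Sig nΩ i j = true := by
    intro i hi j hj
    obtain ⟨a, ha, h⟩ := (Finset.mem_filter.1 hi).2
    obtain ⟨b, hb, h'⟩ := (Finset.mem_filter.1 hj).2
    rw [comB, List.all_eq_true]
    intro k hk
    have hk' := List.mem_range.1 hk
    have h3 := (h.mul h' (t.hSlt j (hlt j hj)) k hk').1
    have h4 := (h'.mul h (t.hSlt i (hlt i hi)) k hk').1
    rw [hcomm a ha b hb, h4] at h3
    have := t.hωinj _ (t.hSlt j (hlt j hj) _ (t.hSlt i (hlt i hi) k hk')) _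
      (t.hSlt i (hlt i hi) _ (t.hSlt j (hlt j hj) k hk')) h3
    simp only [beq_iff_eq]
    exact this.symm
  have hadj : ∀ i ∈ F, ∀ j ∈ F, adjB Sig nΩ i j = true := by
    intro i hi j hj
    rw [adjB, hinv i hi, hinv j hj, hcom i hi j hj]; rfl
  have hcard : (F.erase 0).card ≤ kc := by
    apply card_le_of_noCl (adjB Sig nΩ) fuel kc _ (List.nodup_range.filter _) hcl
    · intro i hi
      have h3 := Finset.mem_erase.1 hi
      simp only [List.mem_filter, List.mem_range, bne_iff_ne]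
      exact ⟨hlt i h3.2, h3.1⟩
    · intro i hi j hj
      exact hadj i (Finset.mem_of_mem_erase hi) j (Finset.mem_of_mem_erase hj)
  have hFc : F.card ≤ kc + 1 := by
    have := Finset.pred_card_le_card_erase (s := F) (a := 0)
    omega
  -- a nontrivial index
  obtain ⟨i, hiF, hi0⟩ : ∃ i ∈ F, i ≠ 0 := by
    by_contra hcon
    apply hnot
    intro a ha
    obtain ⟨i, hi, h⟩ := h1 a ha
    have : i = 0 := by
      by_contra h0
      exact hcon ⟨i, hi, h0⟩
    subst this
    apply t.hstab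
    intro k hk
    rw [(h k hk).1, t.hS0 k hk]
  have hcover : ∀ j ∈ F, ∀ k ∈ (K ⊓ A : Subgroup G), ∀ x < 2 ^ r, evL es x = k →
      xorL (msOf Sig cs r j) x = x := by
    intro j hj k hk x hx e
    obtain ⟨a, ha, h⟩ := (Finset.mem_filter.1 hj).2
    apply t.fixed j (hlt j hj) a h x hx
    rw [e]
    exact hcomm a ha k hk.2
  have hex : ∀ k ∈ (K ⊓ A : Subgroup G), ∃ x < 2 ^ r, evL es x = k := by
    intro k hk
    have h3 : k ∈ Subgroup.closure {g | g ∈ es} := by rw [← t.hK]; exact hk.1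
    have := exists_evL es t.hCI k h3
    rwa [t.hlen] at this
  rw [card_split A K]
  by_cases hj : ∃ j ∈ F, j ≠ 0 ∧ j ≠ i
  · right
    obtain ⟨j, hjF, hj0, hji⟩ := hj
    have h5 : Nat.card (K ⊓ A : Subgroup G) ≤ c2 := by
      refine le_trans ?_ (hc2 i (hlt i hiF) j (hlt j hjF) hi0 hj0 (Ne.symm hji) (hadj i hiF j hjF))
      rw [pcnt_spec]
      apply card_le_of_cover _ _ (evL es)
      intro k hk
      obtain ⟨x, hx, e⟩ := hex k hk
      refine ⟨x, Finset.mem_filter.2 ⟨Finset.mem_range.2 hx, ?_⟩, e⟩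
      rw [Nat.testBit_and, hmask i (hlt i hiF) hi0 (hinv i hiF) x hx (hcover i hiF k hk x hx e),
        hmask j (hlt j hjF) hj0 (hinv j hjF) x hx (hcover j hjF k hk x hx e)]
      rfl
    exact Nat.mul_le_mul (le_trans hrel hFc) h5
  · left
    have h5 : Nat.card (K ⊓ A : Subgroup G) ≤ c1 := by
      refine le_trans ?_ (hc1 i (hlt i hiF) hi0 (hinv i hiF))
      rw [pcnt_spec]
      apply card_le_of_cover _ _ (evL es)
      intro k hk
      obtain ⟨x, hx, e⟩ := hex k hk
      exact ⟨x, Finset.mem_filter.2 ⟨Finset.mem_range.2 hx,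
        hmask i (hlt i hiF) hi0 (hinv i hiF) x hx (hcover i hiF k hk x hx e)⟩, e⟩
    have h6 : F.card ≤ 2 := by
      have : F ⊆ {0, i} := by
        intro j hjF
        by_contra hcon
        simp only [Finset.mem_insert, Finset.mem_singleton, not_or] at hcon
        exact hj ⟨j, hjF, hcon.1, hcon.2⟩
      exact le_trans (Finset.card_le_card this) Finset.card_le_two
    exact Nat.mul_le_mul (le_trans hrel h6) h5

end C

/-! ## transport to all Sylow subgroups -/

section D

variable {G : Type*} [Group G]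

/-- the property of a subgroup `T` -/
def QP (n : ℕ) (T : Subgroup G) : Prop :=
  (∀ A : Subgroup G, A ≤ T → Cfsg.IsElementaryAbelian 2 A → Nat.card A ≤ 2 ^ n) ∧
  ∃ K : Subgroup G, K ≤ T ∧ (∀ t ∈ T, ∀ k ∈ K, t * k * t⁻¹ ∈ K) ∧
    Cfsg.IsElementaryAbelian 2 K ∧ Nat.card K = 2 ^ n ∧
    ∀ A : Subgroup G, A ≤ T → Cfsg.IsElementaryAbelian 2 A → Nat.card A = 2 ^ n → A = K

theorem QP_of [Finite G] (n : ℕ) (T0 K : Subgroup G) (hKT : K ≤ T0)
    (hKn : ∀ t ∈ T0, ∀ k ∈ K, t * k * t⁻¹ ∈ K) (hKe : Cfsg.IsElementaryAbelian 2 K)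
    (hKc : Nat.card K = 2 ^ n)
    (H : ∀ A : Subgroup G, A ≤ T0 → Cfsg.IsElementaryAbelian 2 A → ¬ A ≤ K → Nat.card A < 2 ^ n) :
    QP n T0 := by
  refine ⟨?_, K, hKT, hKn, hKe, hKc, ?_⟩
  · intro A hA hE
    by_cases h : A ≤ K
    · rw [← hKc]; exact Subgroup.card_le_of_le h
    · exact le_of_lt (H A hA hE h)
  · intro A hA hE hc
    have h : A ≤ K := by
      by_contra h
      have := H A hA hE h
      omega
    exact Subgroup.eq_of_le_of_card_ge h (by rw [hc, hKc])

theorem EA_map (f : G →* G) (A : Subgroup G) (h : Cfsg.IsElementaryAbelian 2 A) :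
    Cfsg.IsElementaryAbelian 2 (A.map f) := by
  constructor
  · refine ⟨⟨?_⟩⟩
    rintro ⟨_, a, ha, rfl⟩ ⟨_, b, hb, rfl⟩
    apply Subtype.ext
    show f a * f b = f b * f a
    have := congrArg Subtype.val (h.1.is_comm.comm (⟨a, ha⟩ : A) ⟨b, hb⟩)
    have h2 : a * b = b * a := this
    rw [← map_mul, ← map_mul, h2]
  · rintro _ ⟨a, ha, rfl⟩
    rw [← map_pow, h.2 a ha, map_one]

theorem QP_map (n : ℕ) (T : Subgroup G) (φ : G ≃* G) (h : QP n T) :
    QP n (T.map φ.toMonoidHom) := by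
  obtain ⟨h1, K, hKT, hKn, hKe, hKc, hu⟩ := h
  have hback : ∀ A : Subgroup G, A ≤ T.map φ.toMonoidHom → A.map φ.symm.toMonoidHom ≤ T := by
    rintro A hA _ ⟨a, ha, rfl⟩
    obtain ⟨t, ht, e⟩ := hA ha
    have : φ.symm.toMonoidHom a = t := by
      rw [← e]; exact φ.symm_apply_apply t
    rw [this]; exact ht
  have hcard : ∀ A : Subgroup G, Nat.card (A.map φ.symm.toMonoidHom) = Nat.card A := fun A =>
    Subgroup.card_map_of_injective φ.symm.injective
  refine ⟨?_, K.map φ.toMonoidHom, Subgroup.map_mono hKT, ?_, EA_map _ _ hKe, ?_, ?_⟩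
  · intro A hA hE
    rw [← hcard A]
    exact h1 _ (hback A hA) (EA_map _ _ hE)
  · rintro _ ⟨t, ht, rfl⟩ _ ⟨k, hk, rfl⟩
    refine ⟨t * k * t⁻¹, hKn t ht k hk, ?_⟩
    simp
  · rw [Subgroup.card_map_of_injective φ.injective, hKc]
  · intro A hA hE hc
    have := hu _ (hback A hA) (EA_map _ _ hE) (by rw [hcard A, hc])
    rw [← this]
    ext x
    constructor
    · intro hx
      exact ⟨φ.symm x, ⟨x, hx, rfl⟩, φ.apply_symm_apply x⟩
    · rintro ⟨_, ⟨a, ha, rfl⟩, rfl⟩
      have : φ.toMonoidHom (φ.symm.toMonoidHom a) = a := φ.apply_symm_apply a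
      rw [this]; exact ha

theorem final [Finite G] (n N : ℕ) (T0 : Subgroup G) (hT0 : Nat.card T0 = 2 ^ N)
    (hG : (Nat.card G).factorization 2 = N) (hQ : QP n T0) (T : Sylow 2 G) :
    (∀ A : Subgroup G, A ≤ T → (A.subgroupOf T).Normal → Cfsg.IsElementaryAbelian 2 A →
        Nat.card A ≤ 2 ^ n) ∧
    ∃! A : Subgroup G, A ≤ T ∧ (A.subgroupOf T).Normal ∧ Cfsg.IsElementaryAbelian 2 A ∧
        Nat.card A = 2 ^ n := by
  haveI : Fact (Nat.Prime 2) := ⟨Nat.prime_two⟩
  obtain ⟨P0, hP0⟩ := (IsPGroup.of_card hT0).exists_le_sylow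
  have hc : Nat.card (P0 : Subgroup G) = 2 ^ N := by rw [Sylow.card_eq_multiplicity, hG]
  have hTP : T0 = P0 := Subgroup.eq_of_le_of_card_ge hP0 (by rw [hc, hT0])
  obtain ⟨g, hg⟩ := MulAction.exists_smul_eq G P0 T
  have hT : (T : Subgroup G) = T0.map (MulAut.conj g).toMonoidHom := by
    rw [← hg, Sylow.coe_subgroup_smul, hTP]
    rfl
  have hQT : QP n (T : Subgroup G) := by
    rw [hT]; exact QP_map n T0 _ hQ
  obtain ⟨h1, K, hKT, hKn, hKe, hKc, hu⟩ := hQT
  refine ⟨fun A hA _ hE => h1 A hA hE, K, ⟨hKT, ?_, hKe, hKc⟩, ?_⟩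
  · refine ⟨fun k hk t => ?_⟩
    rw [Subgroup.mem_subgroupOf] at hk ⊢
    exact hKn t t.2 k hk
  · rintro A ⟨hA, _, hE, hc⟩
    exact hu A hA hE hc

end D

/-! ## chains with counted orbits, inside a subgroup -/

section E

variable {G : Type*} [Group G]

theorem relIndex_ge_of_cntB (ψ : G →* Equiv.Perm ℕ) (A B : Subgroup G) (b : ℕ)
    (hBfin : A.relIndex B ≠ 0)
    (hA : ∀ g ∈ A, ψ g b = b)
    (P2 : ℕ) (NT : ℕ → List (ℕ × ℕ)) (hNT : ∀ l, ∀ st ∈ NT l, stOK P2 st = true)
    (moves : List (List ℕ)) (hmoves : ∀ w ∈ moves, ∃ t ∈ B, ψ t = wordPerm NT w) (r k m : ℕ)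
    (h : Nat.ble m (pcnt k (grow NT moves r (Nat.pow 2 b))) = true) : m ≤ A.relIndex B := by
  classical
  have h1 : m ≤ pcnt k (grow NT moves r (2 ^ b)) := Nat.le_of_ble_eq_true h
  rw [pcnt_spec] at h1
  set T := (Finset.range (2 ^ k)).filter (fun p => (grow NT moves r (2 ^ b)).testBit p = true) with hT
  have hreach : ∀ p ∈ T, ∃ g ∈ B, ψ g b = p := by
    intro p hp
    rw [hT, Finset.mem_filter] at hp
    refine grow_spec P2 NT hNT (fun p => ∃ h ∈ B, ψ h b = p) moves ?_ r (2 ^ b) ?_ p hp.2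
    · rintro w hw p ⟨h, hh, e⟩
      obtain ⟨t, ht, et⟩ := hmoves w hw
      refine ⟨t⁻¹ * h, B.mul_mem (B.inv_mem ht) hh, ?_⟩
      rw [map_mul, Equiv.Perm.mul_apply, e, map_inv, et]
      simp
    · intro p hp
      rw [Nat.testBit_two_pow] at hp
      have : b = p := by simpa using hp
      subst this
      exact ⟨1, B.one_mem, by simp⟩
  choose! g hg hgb using hreach
  haveI : Finite (B ⧸ A.subgroupOf B) := by
    apply Nat.finite_of_card_ne_zero
    exact hBfin
  let F : T → B ⧸ (A.subgroupOf B) := fun p => ((⟨g p, hg p p.2⟩ : B) : B ⧸ _)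
  have hF : Function.Injective F := by
    intro i j hij
    have h2 := QuotientGroup.eq.1 hij
    rw [Subgroup.mem_subgroupOf] at h2
    have h3 : ψ ((g i)⁻¹ * g j) b = b := hA _ h2
    rw [map_mul, Equiv.Perm.mul_apply, hgb j j.2, map_inv, Equiv.Perm.inv_eq_iff_eq, hgb i i.2] at h3
    exact Subtype.ext h3.symm
  have := Nat.card_le_card_of_injective F hF
  have h4 : Nat.card T = T.card := by simp
  rw [h4] at this
  exact le_trans h1 this

theorem stabL_cons (ψ : G →* Equiv.Perm ℕ) (b : ℕ) (bs : List ℕ) :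
    stabL ψ (b :: bs) = stabL ψ bs ⊓ stabL ψ [b] := by
  ext g
  simp only [Subgroup.mem_inf, mem_stabL, List.mem_cons, List.mem_nil_iff, or_false]
  constructor
  · intro h
    exact ⟨fun c hc => h c (Or.inr hc), fun c hc => h c (Or.inl hc)⟩
  · rintro ⟨h1, h2⟩ c (hc | hc)
    · exact h2 c hc
    · exact h1 c hc

/-- push the base points of the levels -/
def pushC : List (List (List ℕ) × ℕ × ℕ × ℕ) → List ℕ → List ℕ
  | [], bs => bs
  | x :: rest, bs => pushC rest (x.2.2.1 :: bs)

/-- the check of a chain; a level is `(moves, r, b, m)` -/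
noncomputable def chainChkC (NT : ℕ → List (ℕ × ℕ)) (ok : ℕ → Bool) (k : ℕ) :
    List (List (List ℕ) × ℕ × ℕ × ℕ) → List ℕ → Bool
  | [], _ => true
  | x :: rest, bs =>
    x.1.all (fun w => w.all ok) &&
    (Nat.ble x.2.2.2 (pcnt k (grow NT x.1 x.2.1 (Nat.pow 2 x.2.2.1))) &&
    (bs.all (fun c => fixChk NT x.1 c 1) &&
    chainChkC NT ok k rest (x.2.2.1 :: bs)))

theorem word_mem (ψ : G →* Equiv.Perm ℕ) (B0 : Subgroup G) (NT : ℕ → List (ℕ × ℕ)) (ok : ℕ → Bool)
    (hrange : ∀ l, ok l = true → ∃ t ∈ B0, ψ t = netPerm (NT l)) :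
    ∀ w : List ℕ, w.all ok = true → ∃ t ∈ B0, ψ t = wordPerm NT w
  | [], _ => ⟨1, B0.one_mem, by simp [wordPerm]⟩
  | l :: w, h => by
    simp only [List.all_cons, Bool.and_eq_true] at h
    obtain ⟨t, ht, e⟩ := hrange l h.1
    obtain ⟨u, hu, e'⟩ := word_mem ψ B0 NT ok hrange w h.2
    refine ⟨t * u, B0.mul_mem ht hu, ?_⟩
    rw [map_mul, e, e']
    simp [wordPerm]

theorem chain_cardC [Finite G] (ψ : G →* Equiv.Perm ℕ) (B0 : Subgroup G) (P2 : ℕ)
    (NT : ℕ → List (ℕ × ℕ)) (hNT : ∀ l, ∀ st ∈ NT l, stOK P2 st = true) (ok : ℕ → Bool) (k : ℕ)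
    (hrange : ∀ l, ok l = true → ∃ t ∈ B0, ψ t = netPerm (NT l)) :
    ∀ (lv : List (List (List ℕ) × ℕ × ℕ × ℕ)) (bs : List ℕ), chainChkC NT ok k lv bs = true →
      (lv.map fun x => x.2.2.2).prod * Nat.card (B0 ⊓ stabL ψ (pushC lv bs) : Subgroup G) ≤
        Nat.card (B0 ⊓ stabL ψ bs : Subgroup G) := by
  intro lv
  induction lv with
  | nil => intro bs _; simp [pushC]
  | cons x rest ih =>
    intro bs h
    simp only [chainChkC, Bool.and_eq_true, List.all_eq_true] at h
    obtain ⟨h1, h2, h3, h4⟩ := h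
    have hle : (B0 ⊓ stabL ψ (x.2.2.1 :: bs) : Subgroup G) ≤ B0 ⊓ stabL ψ bs := by
      rw [stabL_cons, ← inf_assoc]; exact inf_le_left
    have hstep : x.2.2.2 * Nat.card (B0 ⊓ stabL ψ (x.2.2.1 :: bs) : Subgroup G) ≤
        Nat.card (B0 ⊓ stabL ψ bs : Subgroup G) := by
      rw [card_eq_relIndex_mul hle]
      apply Nat.mul_le_mul_right
      apply relIndex_ge_of_cntB ψ _ _ x.2.2.1 ?_ ?_ P2 NT hNT x.1 ?_ x.2.1 k _ h2
      · apply relIndex_ne_zero_of_card hle
        exact Nat.card_pos.ne'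
      · intro g hg
        exact hg.2 _ (by simp)
      · intro w hw
        obtain ⟨t, ht, e⟩ := word_mem ψ B0 NT ok hrange w (List.all_eq_true.2 (h1 w hw))
        refine ⟨t, ⟨ht, ?_⟩, e⟩
        intro c hc
        rw [e]
        exact fix_of_fixChk P2 NT hNT _ c (h3 c hc) _ hw
    have hrec := ih _ h4
    simp only [List.map_cons, List.prod_cons, pushC]
    calc x.2.2.2 * (rest.map fun x => x.2.2.2).prod *
          Nat.card (B0 ⊓ stabL ψ (pushC rest (x.2.2.1 :: bs)) : Subgroup G)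
        = x.2.2.2 * ((rest.map fun x => x.2.2.2).prod *
            Nat.card (B0 ⊓ stabL ψ (pushC rest (x.2.2.1 :: bs)) : Subgroup G)) := by ring
      _ ≤ x.2.2.2 * Nat.card (B0 ⊓ stabL ψ (x.2.2.1 :: bs) : Subgroup G) :=
          Nat.mul_le_mul_left _ hrec
      _ ≤ _ := hstep

end E

/-! ## letters and words -/

/-- the word of the letters selected by the bits of `x` -/
def evW : List ℕ → ℕ → List ℕ
  | [], _ => []
  | l :: L, x => (if x % 2 = 1 then [l] else []) ++ evW L (x / 2)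

theorem evW_mem : ∀ (L : List ℕ) (x l : ℕ), l ∈ evW L x → l ∈ L
  | [], _, _, h => by simp [evW] at h
  | a :: L, x, l, h => by
    rw [evW, List.mem_append] at h
    rcases h with h | h
    · split_ifs at h
      · simp only [List.mem_singleton] at h; subst h; exact List.mem_cons_self
      · simp at h
    · exact List.mem_cons_of_mem _ (evW_mem L _ l h)

section F

variable {G : Type*} [Group G]

theorem evL_map (γ : ℕ → G) : ∀ (L : List ℕ) (x : ℕ),
    evL (L.map γ) x = ((evW L x).map γ).prod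
  | [], _ => by simp [evL, evW]
  | l :: L, x => by
    rw [List.map_cons, evL, evW, List.map_append, List.prod_append, evL_map γ L]
    split_ifs <;> simp

/-- an element with the permutation of the letter -/
noncomputable def gam (ψ : G →* Equiv.Perm ℕ) (NT : ℕ → List (ℕ × ℕ)) (l : ℕ) : G := by
  classical
  exact if h : ∃ y, ψ y = netPerm (NT l) then h.choose else 1

theorem psi_gam (ψ : G →* Equiv.Perm ℕ) (NT : ℕ → List (ℕ × ℕ)) (l : ℕ)
    (h : netPerm (NT l) ∈ ψ.range) : ψ (gam ψ NT l) = netPerm (NT l) := by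
  have h' : ∃ y, ψ y = netPerm (NT l) := MonoidHom.mem_range.1 h
  unfold gam
  rw [dif_pos h']
  exact h'.choose_spec

theorem psi_wd (ψ : G →* Equiv.Perm ℕ) (NT : ℕ → List (ℕ × ℕ)) (Lmax : ℕ)
    (hrange : ∀ l < Lmax, netPerm (NT l) ∈ ψ.range) : ∀ w : List ℕ, (∀ l ∈ w, l < Lmax) →
    ψ ((w.map (gam ψ NT)).prod) = wordPerm NT w
  | [], _ => by simp [wordPerm]
  | l :: w, h => by
    have ih := psi_wd ψ NT Lmax hrange w (fun x hx => h x (List.mem_cons_of_mem _ hx))
    rw [List.map_cons, List.prod_cons, map_mul, ih, psi_gam ψ NT l (hrange l (h l List.mem_cons_self))]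
    simp [wordPerm]

theorem eq_of_wordEq (ψ : G →* Equiv.Perm ℕ) (hinj : Function.Injective ψ)
    (NT : ℕ → List (ℕ × ℕ)) (kk : ℕ) (hNT : ∀ l, ∀ st ∈ NT l, stOK (2 ^ (2 ^ kk)) st = true)
    (Lmax : ℕ) (hrange : ∀ l < Lmax, netPerm (NT l) ∈ ψ.range) (w1 w2 : List ℕ)
    (h1 : ∀ l ∈ w1, l < Lmax) (h2 : ∀ l ∈ w2, l < Lmax) (h : wordEq NT kk w1 w2 = true) :
    (w1.map (gam ψ NT)).prod = (w2.map (gam ψ NT)).prod := by
  apply hinj
  rw [psi_wd ψ NT Lmax hrange w1 h1, psi_wd ψ NT Lmax hrange w2 h2, wordEq_spec NT kk hNT _ _ h]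

end F

/-! ## the master theorem -/

theorem wordPerm_valS (P2 : ℕ) (NT : ℕ → List (ℕ × ℕ))
    (hNT : ∀ l, ∀ st ∈ NT l, stOK P2 st = true) (w : List ℕ) (p q : ℕ)
    (h : Nat.beq (applyWord NT w (Nat.pow 2 q)) (Nat.pow 2 p) = true) : wordPerm NT w p = q := by
  have h1 : applyWord NT w (2 ^ q) = 2 ^ p := Nat.eq_of_beq_eq_true h
  have h2 := applyWord_spec P2 NT hNT w (2 ^ q) p
  rw [h1, Nat.testBit_two_pow_self, Nat.testBit_two_pow] at h2
  have h3 : q = (w.map fun l => netPerm (NT l)).prod p := by simpa using h2.symm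
  exact h3.symm

section M

variable {G : Type*} [Group G]

theorem master [Finite G] (ψ : G →* Equiv.Perm ℕ) (hinj : Function.Injective ψ)
    (NT : ℕ → List (ℕ × ℕ)) (kk : ℕ) (hNT : ∀ l, ∀ st ∈ NT l, stOK (2 ^ (2 ^ kk)) st = true)
    (Lmax : ℕ) (hrange : ∀ l < Lmax, netPerm (NT l) ∈ ψ.range)
    (eL tL : List ℕ) (hL : ∀ l ∈ tL ++ eL, l < Lmax)
    (om cs : ℕ → ℕ) (Sig tau : ℕ → ℕ → ℕ) (masks : ℕ → ℕ) (nΩ nS r : ℕ)
    (levK levE levT : List (List (List ℕ) × ℕ × ℕ × ℕ))
    (c1 : eL.all (fun a => wordEq NT kk [a, a] [] &&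
      eL.all (fun b => wordEq NT kk [a, b] [b, a])) = true)
    (c2 : eL.all (fun a => (List.range nΩ).all (fun k =>
      Nat.beq (applyWord NT [a] (Nat.pow 2 (om k))) (Nat.pow 2 (om k)))) = true)
    (c3 : tL.all (fun g => (List.range nΩ).all (fun k =>
      Nat.beq (applyWord NT [g] (Nat.pow 2 (om (tau g k)))) (Nat.pow 2 (om k)))) = true)
    (c4 : tL.all (fun g => (List.range nΩ).all (fun k =>
      wordEq NT kk (g :: evW eL (cs k)) (evW eL (cs (tau g k)) ++ [g]))) = true)
    (c5 : tL.all (fun g => (List.range nΩ).all (fun k => decide (tau g k < nΩ)) &&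
      (List.range nS).all (fun i => (List.range nS).any (fun i' =>
        (List.range nΩ).all (fun k => Sig i' k == Sig i (tau g k))))) = true)
    (c6 : chainChkC NT (fun l => decide (l < Lmax)) kk levK [] = true)
    (c7 : chainChkC NT (fun l => eL.contains l) kk levE [] = true)
    (c8 : chainChkC NT (fun l => (tL ++ eL).contains l) kk levT [] = true)
    (hlen : eL.length = r) (hr : r ≤ nΩ) (hnS : 0 < nS)
    (hcs : ∀ l < r, cs l = 2 ^ l) (hcslt : ∀ k < nΩ, cs k < 2 ^ r)
    (hωinj : ∀ k < nΩ, ∀ k' < nΩ, om k = om k' → k = k')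
    (hSlt : ∀ i < nS, ∀ k < nΩ, Sig i k < nΩ) (hS0 : ∀ k < nΩ, Sig 0 k = k)
    (hbK : ∀ b ∈ pushC levK [], ∃ k < nΩ, om k = b)
    (hbT : ∀ b ∈ pushC levT [], ∃ k < nΩ, om k = b)
    (hpK : (levK.map fun x => x.2.2.2).prod * 2 ^ r = Nat.card G)
    (hpE : (levE.map fun x => x.2.2.2).prod = 2 ^ r)
    (hpT : (levT.map fun x => x.2.2.2).prod = nS)
    (fuel kc b1 b2 : ℕ)
    (c11 : noCl (adjB Sig nΩ) fuel (kc + 1) ((List.range nS).filter (fun i => i != 0)) = true)
    (c12 : (List.range nS).all (fun i => i == 0 || !invB Sig nΩ i ||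
      (List.range (2 ^ r)).all (fun x => !(xorL (msOf Sig cs r i) x == x) ||
        (masks i).testBit x)) = true)
    (c13 : (List.range nS).all (fun i => i == 0 || !invB Sig nΩ i ||
      Nat.ble (pcnt r (masks i)) b1) = true)
    (c14 : (List.range nS).all (fun i => (List.range nS).all (fun j =>
      i == 0 || j == 0 || i == j || !adjB Sig nΩ i j ||
      Nat.ble (pcnt r (masks i &&& masks j)) b2)) = true)
    (hfin1 : 2 * b1 < 2 ^ r) (hfin2 : (kc + 1) * b2 < 2 ^ r) :
    ∃ T0 : Subgroup G, Nat.card T0 = nS * 2 ^ r ∧ QP r T0 := by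
  classical
  set γ := gam ψ NT with hγdef
  set es := eL.map γ with hes
  set E : Subgroup G := Subgroup.closure {g | g ∈ es} with hE
  set K : Subgroup G := stabL ψ (pushC levK []) with hK
  set T0 : Subgroup G := Subgroup.closure {g | g ∈ (tL ++ eL).map γ} with hT0
  have hLe : ∀ l ∈ eL, l < Lmax := fun l hl => hL l (List.mem_append_right _ hl)
  have hLt : ∀ l ∈ tL, l < Lmax := fun l hl => hL l (List.mem_append_left _ hl)
  have hψγ : ∀ l < Lmax, ψ (γ l) = wordPerm NT [l] := fun l hl => by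
    rw [wordPerm_single]; exact psi_gam ψ NT l (hrange l hl)
  have weq := eq_of_wordEq ψ hinj NT kk hNT Lmax hrange
  rw [List.all_eq_true] at c1 c2 c3 c4 c5
  -- (1)
  have hCI : CI es := by
    constructor
    · intro g hg
      obtain ⟨a, ha, rfl⟩ := List.mem_map.1 hg
      have h := c1 a ha
      rw [Bool.and_eq_true] at h
      have := weq [a, a] [] (by intro l hl; simp at hl; subst hl; exact hLe _ ha) (by simp) h.1
      simpa using this
    · intro g hg g' hg'
      obtain ⟨a, ha, rfl⟩ := List.mem_map.1 hg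
      obtain ⟨b, hb, rfl⟩ := List.mem_map.1 hg'
      have h := c1 a ha
      rw [Bool.and_eq_true, List.all_eq_true] at h
      have := weq [a, b] [b, a]
        (by intro l hl; simp at hl; rcases hl with rfl | rfl; exact hLe _ ha; exact hLe _ hb)
        (by intro l hl; simp at hl; rcases hl with rfl | rfl; exact hLe _ hb; exact hLe _ ha)
        (h.2 b hb)
      simpa using this
  -- (2)
  have hefix : ∀ a ∈ eL, ∀ k < nΩ, ψ (γ a) (om k) = om k := by
    intro a ha k hk
    have h := c2 a ha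
    rw [List.all_eq_true] at h
    rw [hψγ a (hLe a ha)]
    exact wordPerm_valS _ NT hNT [a] _ _ (h k (List.mem_range.2 hk))
  have hEfix : ∀ bs : List ℕ, (∀ b ∈ bs, ∃ k < nΩ, om k = b) → E ≤ stabL ψ bs := by
    intro bs hbs
    rw [hE, Subgroup.closure_le]
    intro g hg
    obtain ⟨a, ha, rfl⟩ := List.mem_map.1 hg
    intro b hb
    obtain ⟨k, hk, rfl⟩ := hbs b hb
    exact hefix a ha k hk
  have hEK : E ≤ K := hEfix _ hbK
  -- (4)
  have hKle : Nat.card K ≤ 2 ^ r := by
    have h := chain_cardC ψ ⊤ _ NT hNT (fun l => decide (l < Lmax)) kk (by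
      intro l hl
      obtain ⟨t, ht⟩ := MonoidHom.mem_range.1 (hrange l (of_decide_eq_true hl))
      exact ⟨t, Subgroup.mem_top _, ht⟩) levK [] c6
    rw [top_inf_eq, top_inf_eq, stabL_nil, Subgroup.card_top, ← hpK] at h
    have hpos : 0 < (levK.map fun x => x.2.2.2).prod := by
      rcases Nat.eq_zero_or_pos (levK.map fun x => x.2.2.2).prod with h0 | h0
      · rw [h0, zero_mul] at hpK
        exact absurd hpK.symm Nat.card_pos.ne'
      · exact h0
    exact Nat.le_of_mul_le_mul_left h hpos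
  -- (5)
  have hEge : 2 ^ r ≤ Nat.card E := by
    have h := chain_cardC ψ E _ NT hNT (fun l => eL.contains l) kk (by
      intro l hl
      have hl' : l ∈ eL := by simpa using hl
      exact ⟨γ l, Subgroup.subset_closure (List.mem_map_of_mem hl'), by
        rw [hψγ l (hLe l hl'), wordPerm_single]⟩) levE [] c7
    rw [hpE, stabL_nil, inf_top_eq] at h
    have h1 : 0 < Nat.card (E ⊓ stabL ψ (pushC levE []) : Subgroup G) := Nat.card_pos
    calc 2 ^ r = 2 ^ r * 1 := (mul_one _).symm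
      _ ≤ 2 ^ r * Nat.card (E ⊓ stabL ψ (pushC levE []) : Subgroup G) := Nat.mul_le_mul_left _ h1
      _ ≤ _ := h
  have hEeq : E = K := Subgroup.eq_of_le_of_card_ge hEK (le_trans hKle hEge)
  have hKc : Nat.card K = 2 ^ r := le_antisymm hKle (hEeq ▸ hEge)
  -- (7)
  set D : ℕ → G := fun k => evL es (cs k) with hD
  have hDw : ∀ k, D k = ((evW eL (cs k)).map γ).prod := fun k => evL_map γ eL (cs k)
  have hT : ∀ a ∈ T0, ∃ i < nS, PT ψ D om nΩ (Sig i) a := by
    apply table_closure Sig nS _ hnS hS0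
    intro g hg
    obtain ⟨l, hl, rfl⟩ := List.mem_map.1 hg
    rcases List.mem_append.1 hl with hl | hl
    · have h3 := c3 l hl
      have h4 := c4 l hl
      have h5 := c5 l hl
      rw [List.all_eq_true] at h3 h4
      rw [Bool.and_eq_true, List.all_eq_true, List.all_eq_true] at h5
      refine ⟨tau l, ?_, ?_, ?_⟩
      · intro k hk
        constructor
        · rw [hψγ l (hLt l hl)]
          exact wordPerm_valS _ NT hNT [l] _ _ (h3 k (List.mem_range.2 hk))
        · have := weq _ _ (by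
            intro x hx
            rcases List.mem_cons.1 hx with rfl | hx
            · exact hLt _ hl
            · exact hLe _ (evW_mem _ _ _ hx)) (by
            intro x hx
            rcases List.mem_append.1 hx with hx | hx
            · exact hLe _ (evW_mem _ _ _ hx)
            · simp at hx; subst hx; exact hLt _ hl) (h4 k (List.mem_range.2 hk))
          rw [List.map_cons, List.prod_cons, List.map_append, List.prod_append, ← hDw, ← hDw] at this
          simp only [List.map_cons, List.map_nil, List.prod_cons, List.prod_nil, mul_one] at this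
          rw [this, mul_assoc, mul_inv_cancel, mul_one]
      · intro k hk
        exact of_decide_eq_true (h5.1 k (List.mem_range.2 hk))
      · intro i hi
        have h6 := h5.2 i (List.mem_range.2 hi)
        rw [List.any_eq_true] at h6
        obtain ⟨i', hi', h7⟩ := h6
        rw [List.all_eq_true] at h7
        refine ⟨i', List.mem_range.1 hi', fun k hk => ?_⟩
        simpa using h7 k (List.mem_range.2 hk)
    · refine ⟨fun k => k, ?_, fun k hk => hk, fun i hi => ⟨i, hi, fun k _ => rfl⟩⟩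
      intro k hk
      refine ⟨hefix l hl k hk, ?_⟩
      have := evL_comm (γ l) es (fun x hx => hCI.2 _ (List.mem_map_of_mem hl) x hx) (cs k)
      show γ l * evL es (cs k) * (γ l)⁻¹ = evL es (cs k)
      rw [this, mul_assoc, mul_inv_cancel, mul_one]
  have t : Tab ψ es om cs Sig nΩ nS r K T0 :=
    { hCI := hCI
      hlen := by rw [hes, List.length_map, hlen]
      hr := hr
      hK := hEeq.symm
      hKc := hKc
      hstab := by
        intro a ha b hb
        obtain ⟨k, hk, rfl⟩ := hbK b hb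
        exact ha k hk
      hcs := hcs
      hcslt := hcslt
      hωinj := hωinj
      hSlt := hSlt
      hS0 := hS0
      hT := hT }
  have hET : E ≤ T0 := by
    apply Subgroup.closure_mono
    intro g hg
    obtain ⟨a, ha, rfl⟩ := List.mem_map.1 hg
    exact List.mem_map_of_mem (List.mem_append_right _ ha)
  have hKT : K ≤ T0 := hEeq ▸ hET
  -- (9)
  have hTle : Nat.card T0 ≤ nS * 2 ^ r := by
    rw [card_split T0 K]
    apply Nat.mul_le_mul
    · have := relIndex_le_card T0 K (Finset.range nS) (fun a i => PT ψ D om nΩ (Sig i) a)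
        (fun a ha => by
          obtain ⟨i, hi, h⟩ := hT a ha
          exact ⟨i, Finset.mem_range.2 hi, h⟩)
        (fun a _ a' _ i h h' => by
          apply t.hstab
          intro k hk
          rw [map_mul, Equiv.Perm.mul_apply, (h' k hk).1, map_inv, Equiv.Perm.inv_eq_iff_eq,
            (h k hk).1])
      simpa using this
    · rw [← hKc]; exact Subgroup.card_le_of_le inf_le_left
  -- (10)
  have hTge : nS * 2 ^ r ≤ Nat.card T0 := by
    have h := chain_cardC ψ T0 _ NT hNT (fun l => (tL ++ eL).contains l) kk (by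
      intro l hl
      have hl' : l ∈ tL ++ eL := by simpa using hl
      exact ⟨γ l, Subgroup.subset_closure (List.mem_map_of_mem hl'), by
        rw [hψγ l (hL l hl'), wordPerm_single]⟩) levT [] c8
    rw [hpT, stabL_nil, inf_top_eq] at h
    refine le_trans (Nat.mul_le_mul_left _ ?_) h
    rw [← hKc]
    apply Subgroup.card_le_of_le
    exact le_inf hKT (hEeq ▸ hEfix _ hbT)
  refine ⟨T0, le_antisymm hTle hTge, ?_⟩
  have hKex : ∀ k ∈ K, ∃ x, evL es x = k := by
    intro k hk
    obtain ⟨x, _, e⟩ := exists_evL es hCI k (by rw [← hE, hEeq]; exact hk)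
    exact ⟨x, e⟩
  have hevK : ∀ x, evL es x ∈ K := by
    intro x
    rw [← hEeq]
    exact evL_mem es _ (fun g hg => Subgroup.subset_closure hg) x
  apply QP_of r T0 K hKT
  · intro a ha k hk
    obtain ⟨x, rfl⟩ := hKex k hk
    obtain ⟨i, hi, h⟩ := hT a ha
    rw [t.conj i hi a h x]
    exact hevK _
  · constructor
    · refine ⟨⟨?_⟩⟩
      rintro ⟨a, ha⟩ ⟨b, hb⟩
      obtain ⟨x, rfl⟩ := hKex a ha
      obtain ⟨y, rfl⟩ := hKex b hb
      apply Subtype.ext
      show evL es x * evL es y = evL es y * evL es x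
      rw [← evL_xor es hCI, ← evL_xor es hCI, Nat.xor_comm]
    · intro a ha
      obtain ⟨x, rfl⟩ := hKex a ha
      rw [pow_two]; exact evL_sq es hCI x
  · exact hKc
  · intro A hA hEA hnot
    rw [List.all_eq_true] at c12 c13 c14
    have := t.bound masks fuel kc b1 b2 c11
      (by
        intro i hi hi0 hinv x hx hfx
        have h := c12 i (List.mem_range.2 hi)
        simp only [Bool.or_eq_true, beq_iff_eq, Bool.not_eq_true', List.all_eq_true,
          List.mem_range] at h
        rcases h with (h | h) | h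
        · exact absurd h hi0
        · rw [hinv] at h; exact absurd h (by simp)
        · rcases h x hx with h | h
          · exact absurd hfx (by simpa using h)
          · exact h)
      (by
        intro i hi hi0 hinv
        have h := c13 i (List.mem_range.2 hi)
        simp only [Bool.or_eq_true, beq_iff_eq, Bool.not_eq_true'] at h
        rcases h with (h | h) | h
        · exact absurd h hi0
        · rw [hinv] at h; exact absurd h (by simp)
        · exact Nat.le_of_ble_eq_true h)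
      (by
        intro i hi j hj hi0 hj0 hij hadj
        have h := c14 i (List.mem_range.2 hi)
        rw [List.all_eq_true] at h
        have h := h j (List.mem_range.2 hj)
        simp only [Bool.or_eq_true, beq_iff_eq, Bool.not_eq_true'] at h
        rcases h with (((h | h) | h) | h) | h
        · exact absurd h hi0
        · exact absurd h hj0
        · exact absurd h hij
        · rw [hadj] at h; exact absurd h (by simp)
        · exact Nat.le_of_ble_eq_true h)
      A hA hEA hnot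
    rcases this with h | h <;> omega

end M

end Cfsg.Agent.Lib.Helper11.SylEA
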